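import Cfsg.Agent.Bender85.Comm.Assembly
import Cfsg.Agent.Bender85.Commute
import Cfsg.Agent.Bender85.InexactCore
import Cfsg.Agent.Bender85.Weights

/-!
The case without an exact abelian prime: the elements of prime order in `Z(J(Y))`, `Y` a Sylow
subgroup of a two-point stabiliser, show that the involutions commute.
-/

set_option autoImplicit false
set_option linter.style.haveILetI false

namespace Cfsg.Agent.Bender85

open Subgroup MulAction Bender43 Bender43.Fixed

universe u

variable {G : Type u} [Group G] [Finite G] {H : Subgroup G}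

/-- What is used of `Z(J(Y))` for a prime that is exact but not good. -/
def BadTop (H : Subgroup G) : Prop :=
  ∀ r : ℕ, r.Prime → r ≠ 2 → ExactPrime H r → ¬ GoodAt H r → ∀ a b : G ⧸ H, a ≠ b →
    ∀ T : Sylow r (stab2 a b : Subgroup G),
      BenderCons37.RankTwo (normalizer ((Cfsg.centerThompsonAOf
          ((T : Subgroup (stab2 a b : Subgroup G)).map (stab2 a b).subtype) : Subgroup G) : Set G)) ∧
        (∃ v ∈ normalizer ((Cfsg.centerThompsonAOf ((T : Subgroup (stab2 a b : Subgroup G)).map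
            (stab2 a b).subtype) : Subgroup G) : Set G), orderOf v = 2 ∧ v • a = a) ∧
        ∃ v ∈ normalizer ((Cfsg.centerThompsonAOf ((T : Subgroup (stab2 a b : Subgroup G)).map
            (stab2 a b).subtype) : Subgroup G) : Set G), orderOf v = 2 ∧ v • b = b

/-- An element normalising a subgroup normalises its `Z(J(·))`. -/
theorem mem_normalizer_zj {Y : Subgroup G} {g : G} (hg : g ∈ normalizer (Y : Set G)) :
    g ∈ normalizer ((Cfsg.centerThompsonAOf Y : Subgroup G) : Set G) := by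
  rw [mem_normalizer_iff_map_conj_eq] at hg ⊢
  erw [PLocalB.centerThompsonAOf_map (MulAut.conj g).toMonoidHom Y
    (MulAut.conj g).injective.injOn]
  exact congrArg _ hg

/-- A two-point stabiliser is not trivial. -/
theorem stab2_ne_bot (hC : Ctx H) {a b : G ⧸ H} (hab : a ≠ b) : stab2 a b ≠ ⊥ := by
  intro h
  obtain ⟨x, hx, y, hy, hne, -⟩ := exists_pair_invAt hC b
  obtain ⟨d, hd, hdx⟩ := exists_conj_invAt hC hab hx hy
  rw [h, mem_bot] at hd
  exact hne (by rw [← hdx, hd, one_mul, inv_one, mul_one])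

/-- If no abelian prime is exact, the centre of each core has a third fixed point. -/
theorem exists_member (hC : Ctx H) {r : ℕ} [Fact r.Prime] (hN : ¬ ExactAbelian H r) {v : G}
    {a b c : G ⧸ H} (hv : Swap H v a b c) (hR : op r (stab2 a b) ≠ ⊥) :
    ∃ X : Subgroup G, IsPGroup r X ∧ X ≠ ⊥ ∧ X ≤ stab2 a b ∧
      stab2 a b ≤ normalizer (X : Set G) ∧ v ∈ normalizer (X : Set G) ∧ ThreeFix H X := by
  set R := op r (stab2 a b) with hRdef
  set X := (center R).map R.subtype with hX
  have hXD : X ≤ stab2 a b := (map_subtype_le _).trans (op_le r _)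
  have hXp : IsPGroup r X := ((op_isPGroup r _).to_subgroup _).map _
  have hDX : stab2 a b ≤ normalizer (X : Set G) :=
    (le_normalizer_op r _).trans (OddLocal43.normalizes_map_characteristic _)
  refine ⟨X, hXp, fun h0 => ?_, hXD, hDX, OddLocal43.normalizes_map_characteristic (center R)
    (OddLocal43.normalizes_map_characteristic (Cfsg.pCore r (stab2 a b))
      (norm_stab2 hv.inv hv.swap)), ?_⟩
  · rw [hX, map_eq_bot_iff_of_injective _ R.subtype_injective] at h0
    haveI : Nontrivial R := (nontrivial_iff_ne_bot R).2 hR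
    exact (ne_of_gt (IsPGroup.bot_lt_center (op_isPGroup r _))) h0
  have ha : a ∈ fixSet H X := fun t ht => mem_stabilizer_iff.1 (mem_inf.1 (hXD ht)).1
  have hb : b ∈ fixSet H X := fun t ht => mem_stabilizer_iff.1 (mem_inf.1 (hXD ht)).2
  by_contra h3
  refine hN fun p q hpq => ?_
  obtain ⟨g, hga, hgb⟩ := exists_map_pair hC hv.ne hpq
  have hD : (stab2 a b).map (MulAut.conj g).toMonoidHom = stab2 p q := by
    rw [stab2_map, hga, hgb]
  haveI : IsMulCommutative X := inferInstance
  refine ⟨X.map (MulAut.conj g).toMonoidHom, hD ▸ map_mono hXD, hXp.map _, inferInstance, ?_, ?_⟩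
  · rw [← hD]
    exact (map_mono hDX).trans (le_normalizer_map _)
  · refine Set.Subset.antisymm (fun w hw => ?_) ?_
    · have hmem : g⁻¹ • w ∈ fixSet H X := by
        intro t ht
        have h := hw (g * t * g⁻¹) ⟨t, ht, rfl⟩
        rw [mul_smul, mul_smul] at h
        rwa [eq_inv_smul_iff]
      by_contra hne
      simp only [Set.mem_insert_iff, Set.mem_singleton_iff, not_or] at hne
      refine h3 ⟨a, ha, b, hb, _, hmem, hv.ne, fun e => hne.1 ?_, fun e => hne.2 ?_⟩
      · rw [← hga, e, smul_inv_smul]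
      · rw [← hgb, e, smul_inv_smul]
    · rintro w (rfl | rfl) _ ⟨t, ht, rfl⟩
      · show (g * t * g⁻¹) • w = w
        rw [mul_smul, mul_smul, inv_smul_eq_iff.2 hga.symm, ha t ht, hga]
      · show (g * t * g⁻¹) • w = w
        rw [mul_smul, mul_smul, inv_smul_eq_iff.2 hgb.symm, hb t ht, hgb]

/-- The case without an exact abelian prime. -/
theorem comm_of_no_exact (hC : Ctx H) (hTop : BadTop H)
    (hNone : ∀ r : ℕ, r.Prime → ¬ ExactAbelian H r) : Comm H := by
  classical
  by_contra hcomm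
  obtain ⟨b, hab⟩ := TwoFusionB.exists_ne_coset hC.se (BenderCore74.base H)
  set a := BenderCore74.base H
  obtain ⟨u, hu2, huab⟩ := TwoFusionB.exists_moveInv hC.se hab
  obtain ⟨c, huc⟩ := TwoFusionB.exists_fix hC.se hu2
  have hu : Swap H u a b c := ⟨hu2, hab, huab, huc⟩
  have hac : a ≠ c := hu.ne_left.symm
  set D := stab2 a b with hDdef
  have hodd : Odd (Nat.card D) := odd_stab2 hC.se hab
  have huD : u ∈ normalizer (D : Set G) := norm_stab2 hu.inv hu.swap
  have hodd2 : ∀ s : ℕ, s.Prime → op s D ≠ ⊥ → s ≠ 2 := by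
    rintro s hs hop rfl
    haveI := Fact.mk hs
    exact Nat.not_even_iff_odd.2 hodd (even_iff_two_dvd.2 (Bender43.op_ne_bot_dvd hop))
  have hgood : ∀ s : ℕ, s.Prime → op s D ≠ ⊥ → ¬ GoodAt H s := by
    intro s hs hop hG
    haveI := Fact.mk hs
    obtain ⟨X, hXp, hX1, hXD, hDX, huX, h3⟩ := exists_member hC (hNone s hs) hu hop
    exact hcomm (Bender36.comm_of_member hC hs hG
      (fun hE => centredAt_of_goodAt hC hs (hodd2 s hs hop) hE hG)
      (fun _ _ _ _ hv _ hX hXD hDX hvX _ ht htX => comm_of_normal hC hv hX hXD hDX hvX ht htX)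
      hu hXp hX1 hXD hDX huX h3)
  -- an invariant Sylow subgroup and its `Z(J(·))`
  have hT : ∀ s : ℕ, ∃ T : Sylow s D,
      s.Prime → u ∈ normalizer (((T : Subgroup D).map D.subtype : Subgroup G) : Set G) := by
    intro s
    by_cases hs : s.Prime
    swap
    · obtain ⟨T⟩ := (inferInstance : Nonempty (Sylow s D))
      exact ⟨T, fun h => absurd h hs⟩
    haveI := Fact.mk hs
    obtain ⟨T, hT⟩ := Coprime.exists_invariant_sylow (zpowers u) D (zpowers_le.2 huD)
      (by rw [Nat.card_zpowers, hu2]; exact Nat.coprime_two_left.2 hodd)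
      (Or.inr (solvable_of_odd hodd)) s
    exact ⟨T, fun _ => hT (mem_zpowers u)⟩
  choose T huT using hT
  let Z : ℕ → Subgroup G := fun s => Cfsg.centerThompsonAOf ((T s : Subgroup D).map D.subtype)
  have huZ : ∀ s, s.Prime → u ∈ normalizer (Z s : Set G) := fun s hs => mem_normalizer_zj (huT s hs)
  have hA0 : ∀ s x, x ∈ Z s ↔ x ∈ Z s ∧ x ^ 0 = 1 := fun s x =>
    ⟨fun h => ⟨h, pow_zero x⟩, fun h => h.1⟩
  have hZne : ∀ s : ℕ, s.Prime → op s D ≠ ⊥ → normalizer (Z s : Set G) ≠ ⊤ := by
    intro s hs hop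
    haveI := Fact.mk hs
    have hle : Z s ≤ D := (PLocalB.centerThompsonAOf_le _).trans (map_subtype_le _)
    refine ne_top_normalizer hC (fun h => ?_) (hodd.of_dvd_nat (card_dvd_of_le hle))
    exact zj_inf_ne_bot (T s) hop (dvd_zero s) (hA0 s)
      (le_bot_iff.1 (h ▸ inf_le_left))
  have hmoveE : ∀ s : ℕ, s.Prime → op s D ≠ ⊥ →
      (∀ x ∈ op s D, x • c = c) ∨ ExactPrime H s := by
    intro s hs hop
    by_cases hE : ExactPrime H s
    · exact Or.inr hE
    refine Or.inl fun x hx => ?_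
    haveI := Fact.mk hs
    exact (Bender36.inexact_sylow hC hs hE hu (T s) (huT s hs)).1 x (op_le_sylow_map (T s) hx)
  have hg : ∀ s : ℕ, s.Prime → op s D ≠ ⊥ →
      ∃ g ∈ normalizer (Z s : Set G), g • a = a ∧ g • b = c := by
    intro s hs hop
    haveI := Fact.mk hs
    by_cases hE : ExactPrime H s
    · obtain ⟨hR, ⟨v, hv, hv2, hva⟩, w, hw, hw2, hwb⟩ :=
        hTop s hs (hodd2 s hs hop) hE (hgood s hs hop) a b hab (T s)
      obtain ⟨g, hg, hgb⟩ := trans_centres hC hv hv2 hw hw2 hva hwb hab hR hv hv2 hva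
        hw hw2 (huZ s hs) hu2 hwb huc hab.symm hac.symm
      exact ⟨g, (mem_inf.1 hg).1, mem_stabilizer_iff.1 (mem_inf.1 hg).2, hgb⟩
    · obtain ⟨g, hg, hga, hgb⟩ := (Bender36.inexact_sylow hC hs hE hu (T s) (huT s hs)).2.2
      exact ⟨g, mem_normalizer_zj hg, hga, hgb⟩
  -- if all other cores fix the centre, the theorem on `Z(J(·))` applies
  have hmain : ∀ s : ℕ, s.Prime → op s D ≠ ⊥ →
      ¬ ∀ q : ℕ, q.Prime → q ≠ s → ∀ x ∈ op q D, x • c = c := by
    intro s hs hop hfix
    haveI := Fact.mk hs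
    obtain ⟨g, hg, hga, hgb⟩ := hg s hs hop
    obtain ⟨hI, w, hw, hw2, hwc⟩ := invAt_le_normalizer_zj_inf hC hu hac (hodd2 s hs hop) (T s)
      (huT s hs) (hA0 s) hga hgb hg hfix
    refine hcomm (comm_of_contains hC (ne_top_normalizer hC
      (zj_inf_ne_bot (T s) hop (dvd_zero s) (hA0 s))
      (hodd.of_dvd_nat (card_dvd_of_le (inf_le_right.trans (op_le s D))))) hI hw hw2 hwc)
  -- weights: a moving core of a prime other than three makes the others fix the centre
  have hweight : ∀ s : ℕ, s.Prime → s ≠ 3 → ∀ x ∈ op s D, x • c ≠ c →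
      ∀ q : ℕ, q.Prime → q ≠ s → ∀ y ∈ op q D, y • c = c := by
    intro s hs hs3 x hx hxc q hq hqs
    haveI := Fact.mk hs
    have hop : op s D ≠ ⊥ := fun h => hxc (by rw [h, mem_bot] at hx; rw [hx, one_smul])
    have hs2 := hodd2 s hs hop
    have hE := (hmoveE s hs hop).resolve_left fun h => hxc (h x hx)
    obtain ⟨hR, ⟨v, hv, hv2, hva⟩, -⟩ := hTop s hs hs2 hE (hgood s hs hop) a b hab (T s)
    set N := normalizer (Z s : Set G) with hN
    have hNtop : N ≠ ⊤ := hZne s hs hop
    rcases exists_eight_or_fixes hC hNtop hR hu (huZ s hs) ⟨hv2, hva⟩ hv with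
      ⟨E, hEN, hE8, hEsq, hEc⟩ | hfx
    swap
    · exfalso
      refine hxc (hfx x (mem_inf.2 ⟨?_, op_le s D hx⟩) ?_)
      · refine mem_normalizer_zj ?_
        exact Subgroup.le_normalizer (op_le_sylow_map (T s) hx)
      · obtain ⟨i, hi⟩ := exists_pow_eq_one (op_isPGroup s D) hx
        refine Nat.Coprime.coprime_dvd_left (orderOf_dvd_of_pow_eq_one hi) (Nat.Coprime.pow_left _ ?_)
        exact (Nat.coprime_primes hs Nat.prime_two).2 hs2 |>.mul_right
          ((Nat.coprime_primes hs Nat.prime_three).2 hs3)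
    -- the elements of prime order in `Z(J(Y))`
    have hZc : ∀ x ∈ Z s, ∀ y ∈ Z s, Commute x y := fun x hx y hy => by
      exact ((mem_centralizer_iff.1 (mem_inf.1 hx).2) y (mem_inf.1 hy).1).symm
    let A : Subgroup G :=
      { carrier := {x | x ∈ Z s ∧ x ^ s = 1}
        one_mem' := ⟨one_mem _, one_pow s⟩
        mul_mem' := fun {x y} hx hy => ⟨mul_mem hx.1 hy.1, by
          rw [(hZc x hx.1 y hy.1).mul_pow, hx.2, hy.2, one_mul]⟩
        inv_mem' := fun {x} hx => ⟨inv_mem hx.1, by rw [inv_pow, hx.2, inv_one]⟩ }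
    have hA : ∀ x, x ∈ A ↔ x ∈ Z s ∧ x ^ s = 1 := fun x => Iff.rfl
    have hNA : N ≤ normalizer (A : Set G) := by
      refine Coprime.le_normalizer_of_conj_mem fun n hn x hx => (hA _).2 ⟨?_, ?_⟩
      · exact (mem_normalizer_iff.1 hn x).1 hx.1
      · rw [conj_pow, hx.2, mul_one, mul_inv_cancel]
    have hfaith : ∀ e ∈ E, e ≠ 1 → ∃ y ∈ A, e * y * e ≠ y := by
      intro e he he1
      by_contra hall
      push Not at hall
      have he2 : orderOf e = 2 := orderOf_eq_prime (by rw [pow_two]; exact hEsq e he) he1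
      obtain ⟨n, hn, hne⟩ := isConj_in hC (huZ s hs) hu2 hv hv2 huc hva hac.symm (hEN he) he2 hv hv2
      have heA : e ∈ centralizer (A : Set G) := mem_centralizer_iff.2 fun y hy => by
        have h := hall y hy
        calc y * e = e * y * e * e := by rw [h]
          _ = e * y := by rw [mul_assoc, hEsq e he, mul_one]
      have hvA : v ∈ centralizer (A : Set G) := by
        rw [← hne]
        exact (mem_normalizer_iff.1 (Coprime.le_normalizer_centralizer hNA hn) e).1 heA
      refine hcomm (comm_of_normal hC hu (X := A ⊓ op s D) (zj_inf_ne_bot (T s) hop dvd_rfl hA)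
        (inf_le_right.trans (op_le s D)) (le_normalizer_zj_inf hodd hs2 (T s) hA)
        (mem_normalizer_zj_inf hA (huT s hs) huD) ⟨hv2, hva⟩ ?_)
      exact centralizer_le_normalizer _
        (centralizer_le (SetLike.coe_subset_coe.2 inf_le_left) hvA)
    have hact : Weights51.Act s A E :=
      ⟨hs, hs2, fun x hx y hy => hZc x hx.1 y hy.1, fun x hx => hx.2, hEsq, hEN.trans hNA, hfaith⟩
    haveI := Fact.mk hq
    have hcop : (Nat.card (op q D)).Coprime s := by
      obtain ⟨i, hi⟩ := IsPGroup.iff_card.1 (op_isPGroup q D)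
      rw [hi]
      exact Nat.Coprime.pow_left i ((Nat.coprime_primes hq hs).2 hqs)
    have hAq : A ≤ normalizer ((op q D : Subgroup G) : Set G) := fun x hx =>
      le_normalizer_op q D (map_subtype_le _ (PLocalB.centerThompsonAOf_le _ hx.1))
    exact fun y hy => mem_stabilizer_iff.1 (le_stabilizer_of_eight hC hact hE8 hEc hAq hcop hy)
  -- the end
  obtain ⟨s₀, hs₀, hop₀⟩ := exists_op_ne_bot hodd (stab2_ne_bot hC hab)
  by_cases hmove : ∃ s : ℕ, s.Prime ∧ s ≠ 3 ∧ ∃ x ∈ op s D, x • c ≠ c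
  · obtain ⟨s, hs, hs3, x, hx, hxc⟩ := hmove
    refine hmain s hs (fun h => hxc ?_) (hweight s hs hs3 x hx hxc)
    rw [h, mem_bot] at hx
    rw [hx, one_smul]
  push Not at hmove
  by_cases h3 : op 3 D = ⊥
  · refine hmain s₀ hs₀ hop₀ fun q hq _ x hx => ?_
    rcases eq_or_ne q 3 with rfl | hq3
    · rw [h3, mem_bot] at hx
      rw [hx, one_smul]
    · exact hmove q hq hq3 x hx
  · exact hmain 3 Nat.prime_three h3 fun q hq hq3 x hx => hmove q hq hq3 x hx

end Cfsg.Agent.Bender85
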