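import Cfsg.Agent.Bender85.BadTop
import Cfsg.Agent.Bender85.Comm.NoExact

/-!
The involutions of a strongly embedded subgroup commute.
-/

set_option autoImplicit false

namespace Cfsg.Agent.Bender85

open Bender43 Bender43.Fixed

universe u

variable {G : Type u} [Group G] [Finite G] {H : Subgroup G}

/-- The involutions of `H` commute, given what is used of `Z(J(Y))` for bad primes. -/
theorem comm_of_badTop (hC : Ctx H) (hTop : BadTop H) : Comm H := by
  classical
  by_cases h : ∃ s : ℕ, s.Prime ∧ s ≠ 2 ∧ ExactAbelian H s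
  · obtain ⟨s, hs, hs2, hA⟩ := h
    exact comm_of_exactAbelian hC
      (fun _ _ _ _ hv _ hX hXD hDX hvX _ ht htX => comm_of_normal hC hv hX hXD hDX hvX ht htX)
      hs hs2 hA
  · refine comm_of_no_exact hC hTop fun r hr hA => ?_
    rcases eq_or_ne r 2 with rfl | hr2
    · -- an abelian 2-group in a group of odd order is trivial and fixes everything
      obtain ⟨b, hab⟩ := TwoFusionB.exists_ne_coset hC.se (BenderCore74.base H)
      obtain ⟨A, hAD, hAp, -, -, hfix⟩ := hA _ b hab
      obtain ⟨u, hu2, huab⟩ := TwoFusionB.exists_moveInv hC.se hab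
      obtain ⟨c, huc⟩ := TwoFusionB.exists_fix hC.se hu2
      have hu : Swap H u (BenderCore74.base H) b c := ⟨hu2, hab, huab, huc⟩
      have hA1 : A = ⊥ := by
        have := Fact.mk Nat.prime_two
        obtain ⟨n, hn⟩ := IsPGroup.iff_card.1 hAp
        rw [← Subgroup.card_eq_one, hn]
        rcases Nat.eq_zero_or_pos n with rfl | h0
        · rfl
        · have := (odd_stab2 hC.se hab).of_dvd_nat (Subgroup.card_dvd_of_le hAD)
          rw [hn, Nat.odd_pow_iff h0.ne'] at this
          exact absurd this (by decide)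
      have hc : c ∈ fixSet H A := fun t ht => by
        rw [hA1, Subgroup.mem_bot] at ht
        rw [ht, one_smul]
      rw [hfix] at hc
      rcases hc with e | e
      · exact hu.ne_left e
      · exact hu.ne_right e
    · exact h ⟨r, hr, hr2, hA⟩

/-- The involutions of `H` commute. -/
theorem comm (hC : Ctx H) : Comm H :=
  comm_of_badTop hC fun r hr hr2 hE hG a b hab T => by
    obtain ⟨hR, ⟨v, hv, hva⟩, w, hw, hwb⟩ := bad_top hC hr hr2 hE hG hab T
    exact ⟨hR, ⟨v, hv, hva.1, hva.2⟩, w, hw, hwb.1, hwb.2⟩

end Cfsg.Agent.Bender85
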