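import Cfsg.Agent.Bender85.BadTop
import Cfsg.Agent.Bender85.Comm.Final

/-!
The involutions of a strongly embedded subgroup commute, from the induction hypothesis alone.
-/

set_option autoImplicit false

namespace Cfsg.Agent.Bender85

open Bender43 Bender43.Fixed

universe u

variable {G : Type u} [Group G] [Finite G] {H : Subgroup G}

/-- The involutions of `H` commute. -/
theorem comm_of_ctx (hC : Ctx H) : Comm H :=
  comm_of_badTop hC fun _ hr hr2 hE hG _ _ hab Y => bad_top hC hr hr2 hE hG hab Y

end Cfsg.Agent.Bender85
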