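import Cfsg.Agent.Bender85.OpenCore
import Cfsg.Agent.Bender85.Tee
import Cfsg.Agent.Bender36.Inexact

/-!
The involutions of a strongly embedded subgroup commute: the final assembly. If some prime is exact
abelian then no real element fixes a centre, so every prime is good, and either the core is open or
some invariant subgroup of prime power order has a third fixed point.
-/

set_option autoImplicit false
set_option linter.style.haveILetI false

namespace Cfsg.Agent.Bender85

open Subgroup MulAction Bender43 Bender43.Fixed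

universe u

variable {G : Type u} [Group G] [Finite G] {H : Subgroup G}

omit [Finite G] in
/-- A non-trivial group of odd order has a non-trivial core for some prime. -/
theorem exists_op_ne_bot [Finite G] {X : Subgroup G} (hodd : Odd (Nat.card X)) (hX : X ≠ ⊥) :
    ∃ r : ℕ, r.Prime ∧ op r X ≠ ⊥ := by
  by_contra hcon
  push Not at hcon
  have := solvable_of_odd hodd
  have hF : Cfsg.fittingSubgroup X = ⊥ := by
    rw [Fitting.fitting_eq_iSup_pCore, iSup_eq_bot]
    rintro ⟨q, hq⟩
    exact (map_eq_bot_iff_of_injective _ X.subtype_injective).mp (hcon q hq)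
  have hC := Fitting.centralizer_fitting_le (G := X)
  rw [hF, le_bot_iff] at hC
  refine hX (eq_bot_iff_forall _ |>.mpr fun x hx => ?_)
  have hx1 : (⟨x, hx⟩ : X) ∈ centralizer ((⊥ : Subgroup X) : Set X) :=
    mem_centralizer_iff.mpr fun w hw => by
      rw [show w = 1 from mem_bot.mp hw, one_mul, mul_one]
  rw [hC, mem_bot] at hx1
  exact congrArg Subtype.val hx1

/-- If some prime is exact abelian, the involutions commute. -/
theorem comm_of_exactAbelian (hC : Ctx H)
    (hnormal : ∀ (v : G) (a b c : G ⧸ H), Swap H v a b c → ∀ X : Subgroup G, X ≠ ⊥ →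
      X ≤ stab2 a b → stab2 a b ≤ normalizer (X : Set G) → v ∈ normalizer (X : Set G) →
      ∀ t ∈ invAt H a, t ∈ normalizer (X : Set G) → Comm H)
    {s : ℕ} (hs : s.Prime) (hs2 : s ≠ 2) (hA : ExactAbelian H s) : Comm H := by
  have hM : NoRealFixed H := Bender36.noRealFixed_of_exact hC hs hA (goodAt_of_exactAbelian hC hs hs2 hA)
  have hgood : ∀ r : ℕ, GoodAt H r := Bender36.goodAt_of_noRealFixed hC hM
  have hodd : ∀ a b : G ⧸ H, a ≠ b → Odd (Nat.card (stab2 a b : Subgroup G)) :=
    fun a b hab => odd_stab2 hC.se hab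
  by_cases hO : OpenCore H
  · refine comm_of_openCore hC hO hM fun r hr hrA => ?_
    obtain ⟨b, hab⟩ := TwoFusionB.exists_ne_coset hC.se (BenderCore74.base H)
    rcases eq_or_ne r 2 with rfl | hr2
    · obtain ⟨A, hAD, hAp, -, -, hfix⟩ := hrA _ b hab
      haveI := Fact.mk Nat.prime_two
      obtain ⟨n, hn⟩ := IsPGroup.iff_card.1 hAp
      have hA1 : A = ⊥ := by
        rw [← Subgroup.card_eq_one, hn]
        rcases Nat.eq_zero_or_pos n with rfl | h
        · rfl
        · have := (hodd _ _ hab).of_dvd_nat (card_dvd_of_le hAD)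
          rw [hn, Nat.odd_pow_iff h.ne'] at this
          exact absurd this (by decide)
      -- the trivial group fixes everything, so there are only two points
      intro X _ h3
      exfalso
      obtain ⟨p, hp, q, hq, w, hw, hpq, hpw, hqw⟩ := h3
      have hall : ∀ x : G ⧸ H, x = BenderCore74.base H ∨ x = b := fun x => by
        have hx : x ∈ fixSet H A := fun t ht => by
          rw [hA1, mem_bot] at ht
          rw [ht, one_smul]
        rwa [hfix] at hx
      rcases hall p with rfl | rfl <;> rcases hall q with rfl | rfl <;>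
        rcases hall w with rfl | rfl <;> contradiction
    · exact centredAt_of_exactAbelian hC hr hr2 hrA
  · simp only [OpenCore, not_forall] at hO
    obtain ⟨v, a, b, c, hv, X, hXD, hX, hDX, hvX, hfix⟩ := hO
    obtain ⟨r, hr, hop⟩ := exists_op_ne_bot ((hodd a b hv.ne).of_dvd_nat (card_dvd_of_le hXD)) hX
    haveI := Fact.mk hr
    have hr2 : r ≠ 2 := by
      rintro rfl
      have hd := (Bender43.op_ne_bot_dvd hop).trans (card_dvd_of_le hXD)
      exact (Nat.not_even_iff_odd.2 (hodd a b hv.ne)) (even_iff_two_dvd.2 hd)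
    refine Bender36.comm_of_member hC hr (hgood r) (fun hE => centredAt_of_goodAt hC hr hr2 hE (hgood r)) hnormal hv
      (op_isPGroup r X) hop ((op_le r X).trans hXD) ?_ ?_ ?_
    · exact fun d hd => OddLocal43.normalizes_map_characteristic (Cfsg.pCore r X) (hDX hd)
    · exact OddLocal43.normalizes_map_characteristic (Cfsg.pCore r X) hvX
    · have hab : ({a, b} : Set (G ⧸ H)) ⊆ fixSet H X := by
        rintro w (rfl | rfl) t ht
        · exact mem_stabilizer_iff.1 (mem_inf.1 (hXD ht)).1
        · exact mem_stabilizer_iff.1 (mem_inf.1 (hXD ht)).2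
      obtain ⟨p, hp, hpn⟩ := Set.not_subset.1 fun h => hfix (h.antisymm hab)
      simp only [Set.mem_insert_iff, Set.mem_singleton_iff, not_or] at hpn
      have hsub : fixSet H X ⊆ fixSet H (op r X) := fun w hw t ht => hw t (op_le r X ht)
      exact ⟨a, hsub (hab (Or.inl rfl)), b, hsub (hab (Or.inr rfl)), p, hsub hp, hv.ne,
        Ne.symm hpn.1, Ne.symm hpn.2⟩

end Cfsg.Agent.Bender85
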